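import Groth.Agent.DecSec.RedSub
import Groth.Agent.DecSec.QuotDesc
import Groth.Agent.ASp.RedFactor
import Groth.Agent.ASt.DiagLft
import Groth.Prelude.Def_StCoarse

/-! Categorical moduli spaces of reduced stacks are reduced. -/

set_option autoImplicit false
set_option linter.style.haveILetI false
set_option backward.isDefEq.respectTransparency false
set_option backward.isDefEq.respectTransparency.types false

universe u

open CategoryTheory CategoryTheory.Limits AlgebraicGeometry Opposite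

namespace Groth.Agent.ModRedLib

open _root_.AlgSp Groth.Agent.ASt Groth.Agent.ASp Groth.Agent.DecSec.QuotSch

variable {S : Scheme.{u}} {𝒳 : AlgSt.Cat S}

theorem ofSp_eq_of_iso {M : Sp S} {F F' : 𝒳 ⥤ᵇ AlgSt.ofSp M} (α : F ≅ F') : F = F' := ofSp_ext fun x => by
  haveI h : (AlgSt.ofSp M).p.IsHomLift (𝟙 (𝒳.p.obj x)) (α.hom.toNatTrans.app x) :=
    BasedNatTrans.isHomLift α.hom rfl
  refine obj_ext ((F.w_obj x).trans (F'.w_obj x).symm) ?_
  have h1 := Groth.Agent.ASt.map_of_isHomLift_id (𝒳 := AlgSt.ofSp M) (p := (AlgSt.ofSp M).p) (R := 𝒳.p.obj x)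
    (α.hom.toNatTrans.app x)
  change (α.hom.toNatTrans.app x).hom = _ at h1
  rw [← sy_map (α.hom.toNatTrans.app x), h1]

theorem exists_lift_sy (h𝒳 : AlgSt.IsAlgStack Scheme.fppfPrecoverage 𝒳)
    (hred : AlgSt.SmoothLocally (fun X => IsReduced X) 𝒳) {M R : Sp S} (π : 𝒳 ⥤ᵇ AlgSt.ofSp M) {j : R ⟶ M}
    (hj : IsRedInduced Set.univ j) (y : 𝒳.obj) :
    ∃ p : (yon S).obj (π.obj y).base ⟶ R, p ≫ j = sy (π.obj y) := by
  haveI := h𝒳.isStack.1
  haveI : Mono j := mono_of_repWith (P := @IsClosedImmersion)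
    (fun g hg => haveI : IsClosedImmersion g := hg; inferInstance) hj.1
  obtain ⟨U, b, hb, hbs⟩ := h𝒳.atlas
  haveI : IsReduced U.left := hred U b hb
  have hU : IsReducedSp ((yon S).obj U) :=
    ⟨U, 𝟙 _, repWith_id _ U, repWith_id _ U, inferInstance⟩
  let T := 𝒳.p.obj y
  let w := objFun y (rfl : 𝒳.p.obj y = T)
  obtain ⟨V, l, hl, hls, v, φ, hφ⟩ := exists_lift_atlas hb hbs w
  haveI := hl
  haveI := hls
  let b1 := b.obj (ov (𝟙 U))
  have hb1 : U = (π.obj b1).base := ((π.w_obj b1).trans (b.w_obj (ov (𝟙 U)))).symm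
  obtain ⟨k0, hk0⟩ := exists_lift_of_reduced hU hj.1 ((yon S).map (eqToHom hb1) ≫ sy (π.obj b1))
    (by rw [hj.2.1]; exact Set.subset_univ _)
  let my : w.obj (ov l) ⟶ y := w.map (toTop (ov l)) ≫ pullHom y (rfl : 𝒳.p.obj y = T) (𝟙 T)
  let mb : w.obj (ov l) ⟶ b1 := φ ≫ b.map (toTop (ov v))
  have hmy : (π.map my).hom =
      eqToHom ((π.w_obj _).trans (w.w_obj (ov l))) ≫ l ≫ eqToHom (π.w_obj y).symm := by
    refine (map_w π my).trans ?_
    rw [Functor.map_comp, map_toTop, map_pullHom]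
    simp
  haveI := epi_yon_map l
  haveI : Epi ((yon S).map (π.map my).hom) := by
    rw [hmy, Functor.map_comp, Functor.map_comp]
    infer_instance
  let k1 : (yon S).obj (π.obj (w.obj (ov l))).base ⟶ R :=
    (yon S).map ((π.map mb).hom ≫ eqToHom hb1.symm) ≫ k0
  have hk1 : (yon S).map (π.map my).hom ≫ sy (π.obj y) = k1 ≫ j := by
    rw [sy_map (π.map my)]
    simp only [k1, Category.assoc, hk0]
    rw [← Functor.map_comp_assoc, Category.assoc, eqToHom_trans, eqToHom_refl, Category.comp_id]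
    exact (sy_map (π.map mb)).symm
  obtain ⟨P, a, c, sq⟩ : ∃ (P : Sp S) (a : P ⟶ R) (c : P ⟶ (yon S).obj (π.obj y).base),
      IsPullback a c j (sy (π.obj y)) := ⟨_, _, _, IsPullback.of_hasPullback _ _⟩
  haveI : Mono c := MorphismProperty.of_isPullback (P := MorphismProperty.monomorphisms (Sp S)) sq ‹Mono j›
  haveI : Epi (sq.lift k1 ((yon S).map (π.map my).hom) hk1.symm ≫ c) := by
    rw [sq.lift_snd]; infer_instance
  haveI : Epi c := epi_of_epi (sq.lift k1 ((yon S).map (π.map my).hom) hk1.symm) c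
  haveI : IsIso c := isIso_of_mono_of_epi c
  exact ⟨inv c ≫ a, by rw [Category.assoc, sq.w, IsIso.inv_hom_id_assoc]⟩

/-- A categorical moduli space of a reduced algebraic stack is reduced. -/
theorem isReduced_moduli (h𝒳 : AlgSt.IsAlgStack Scheme.fppfPrecoverage 𝒳)
    (hred : AlgSt.SmoothLocally (fun X => IsReduced X) 𝒳) {M : Sp S} (π : 𝒳 ⥤ᵇ AlgSt.ofSp M)
    (hπ : AlgSt.IsCatModuli π) : EtaleLocally (fun U => AlgebraicGeometry.IsReduced U) M := by
  obtain ⟨R, j, hR, hj⟩ := exists_redInduced (hπ.1 : IsAlgSpace M) (T := Set.univ) isClosed_univ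
  haveI : Mono j := mono_of_repWith (P := @IsClosedImmersion)
    (fun g hg => haveI : IsClosedImmersion g := hg; inferInstance) hj.1
  choose p hp using exists_lift_sy h𝒳 hred π hj
  have hnat : ∀ {a b : 𝒳.obj} (m : a ⟶ b), (yon S).map (π.map m).hom ≫ p b = p a := fun {a b} m => by
    rw [← cancel_mono j, Category.assoc, hp, hp, sy_map]
  let φ : 𝒳 ⥤ᵇ AlgSt.ofSp R :=
    { toFunctor :=
        { obj := fun y => ⟨(π.obj y).base, (AlgSp.J S).uliftYonedaEquiv.{u+1} (p y)⟩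
          map := fun {a b} m => ⟨(π.map m).hom, (AlgSp.J S).uliftYonedaEquiv.{u+1}.symm.injective (by
            rw [← GrothendieckTopology.uliftYonedaEquiv_symm_naturality_left, Equiv.symm_apply_apply,
              Equiv.symm_apply_apply]
            exact hnat m)⟩
          map_id := fun a => (AlgSt.ofSp R).p.map_injective
            (congrArg (fun f : π.obj a ⟶ π.obj a => f.hom) (π.map_id a))
          map_comp := fun {a b c} m n => (AlgSt.ofSp R).p.map_injective
            (congrArg (fun f : π.obj a ⟶ π.obj c => f.hom) (π.map_comp m n)) }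
      w := π.w }
  obtain ⟨g, ⟨hg⟩, -⟩ := hπ.2 R hR φ
  obtain ⟨g₀, -, huniq⟩ := hπ.2 M hπ.1 π
  have e1 : BasedFunctor.comp π (AlgSt.ofSpMap (g ≫ j)) = π := by
    have e0 : BasedFunctor.comp π (AlgSt.ofSpMap (g ≫ j)) =
        BasedFunctor.comp (BasedFunctor.comp π (AlgSt.ofSpMap g)) (AlgSt.ofSpMap j) := ofSp_ext fun _ => rfl
    rw [e0, ofSp_eq_of_iso hg]
    refine ofSp_ext fun y => obj_ext rfl ?_
    rw [eqToHom_refl, CategoryTheory.Functor.map_id, Category.id_comp]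
    apply (AlgSp.J S).uliftYonedaEquiv.{u+1}.injective
    refine (Equiv.apply_symm_apply _ _).trans ?_
    rw [← hp y, GrothendieckTopology.uliftYonedaEquiv_comp]
    rfl
  have e2 : BasedFunctor.comp π (AlgSt.ofSpMap (𝟙 M)) = π := ofSp_ext fun _ => rfl
  have hgj : g ≫ j = 𝟙 M := (huniq _ ⟨eqToIso e1⟩).trans (huniq _ ⟨eqToIso e2⟩).symm
  haveI : IsSplitEpi j := IsSplitEpi.mk' ⟨g, hgj⟩
  haveI : IsIso j := isIso_of_mono_of_isSplitEpi j
  obtain ⟨U, q, hq, hqs, hU⟩ := hj.2.2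
  refine ⟨U, q ≫ j, ?_, ?_, hU⟩
  · exact repWith_of_isPullback (IsPullback.of_horiz_isIso ⟨by simp⟩ : IsPullback (𝟙 _) (q ≫ j) q (inv j)) hq
  · exact repWith_of_isPullback (IsPullback.of_horiz_isIso ⟨by simp⟩ : IsPullback (𝟙 _) (q ≫ j) q (inv j)) hqs

end Groth.Agent.ModRedLib
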